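import Cfsg.Agent.H608.J4.Main
import Cfsg.Agent.H608.XZ.Crit
import Cfsg.Agent.H735.J4C.Fin

/-!
# `J₄`, `p = 11`: the row of S4791 and S4927 (helper608)

* `pgroup_cent`, `no_sq` : from `Eleven D`: the centralizer of a Sylow 11-subgroup is an 11-group, no element of order 121;
* `lt_x0` : `40 < x0 11 M H ^ 2` for `H` isomorphic to `J₄`.
-/

set_option autoImplicit false

open Cfsg Subgroup

namespace Cfsg.Agent.H608.J4

open Cfsg.Agent.H265.J4LP Cfsg.Agent.H674.XZ

universe u

section

variable {G : Type u} [Group G] [Finite G] {D : Data11 G}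

/-- no element of order divisible by 121 -/
theorem no_sq (E : Eleven D) (g : G) : ¬ 11 ^ 2 ∣ orderOf g := by
  intro hg
  obtain ⟨j, hj⟩ := E.exhaust g ((dvd_pow_self 11 (by norm_num)).trans hg)
  rw [H34.TI.orderOf_conj hj, E.ord_rep j] at hg
  clear hj
  revert hg
  revert j
  decide

/-- the centralizer of a Sylow 11-subgroup is an 11-group -/
theorem pgroup_cent [hp : Fact (Nat.Prime 11)] (E : Eleven D) (hN : Nat.card G = 86775571046077562880) (P : Sylow 11 G) :
    IsPGroup 11 (centralizer ((P : Subgroup G) : Set G)) := by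
  have hP : Nat.card (P : Subgroup G) = 1331 := by
    rw [P.card_eq_multiplicity, hN, H34.TI.fact_eleven (by norm_num) (by norm_num) (by norm_num)]
    norm_num
  -- an element of order 11 of the centre of `P`
  have h0 : Nontrivial (center (P : Subgroup G)) := by
    have : Nontrivial (P : Subgroup G) := by
      rw [← Finite.one_lt_card_iff_nontrivial, hP]
      norm_num
    exact P.isPGroup'.center_nontrivial
  obtain ⟨⟨z0, hz0⟩, hz1⟩ := exists_ne (1 : center (P : Subgroup G))
  have hz2 : (z0 : G) ≠ 1 := fun h => hz1 (Subtype.ext (Subtype.ext h))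
  have hzc : ∀ u ∈ (P : Subgroup G), u * z0 = z0 * u := by
    intro u hu
    exact congrArg Subtype.val (mem_center_iff.1 hz0 ⟨u, hu⟩)
  obtain ⟨k, hk⟩ := IsPGroup.iff_orderOf.1 P.isPGroup' z0
  rw [← orderOf_coe] at hk
  have hk0 : k ≠ 0 := by
    rintro rfl
    rw [pow_zero, orderOf_eq_one_iff] at hk
    exact hz2 hk
  have hz11 : 11 ∣ orderOf (z0 : G) := by rw [hk]; exact dvd_pow_self _ hk0
  rw [IsPGroup.iff_orderOf]
  -- elements of order prime to 11
  have key : ∀ c : G, c ∈ centralizer ((P : Subgroup G) : Set G) → (orderOf c).Coprime 11 → c = 1 := by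
    intro c hc hco
    have hcz : Commute (z0 : G) c := mem_centralizer_iff.1 hc z0 z0.2
    have hco' : (orderOf (z0 : G)).Coprime (orderOf c) := by
      rw [hk]
      exact (Nat.Coprime.pow_right k hco).symm
    have ho : orderOf ((z0 : G) * c) = orderOf (z0 : G) * orderOf c := hcz.orderOf_mul_eq_mul_orderOf_of_coprime hco'
    have h11 : 11 ∣ orderOf ((z0 : G) * c) := by rw [ho]; exact hz11.mul_right _
    obtain ⟨j, hj⟩ := E.exhaust _ h11
    have hle : (P : Subgroup G) ≤ centralizer ({(z0 : G) * c} : Set G) := by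
      intro u hu
      rw [mem_centralizer_singleton_iff, ← mul_assoc, hzc u hu, mul_assoc, mem_centralizer_iff.1 hc u hu, mul_assoc]
    have h1 : 1331 ∣ Nat.card (centralizer ({(z0 : G) * c} : Set G)) := by
      rw [← hP]
      exact card_dvd_of_le hle
    have h2 : Nat.card (centralizer ({(z0 : G) * c} : Set G)) = Nat.card (centralizer ({D.rep j} : Set G)) := by
      obtain ⟨b, hb⟩ := isConj_iff.1 hj
      refine Nat.card_congr
        { toFun := fun y => ⟨b * y * b⁻¹, ?_⟩
          invFun := fun y => ⟨b⁻¹ * y * b, ?_⟩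
          left_inv := fun y => Subtype.ext (by simp [mul_assoc])
          right_inv := fun y => Subtype.ext (by simp [mul_assoc]) }
      · rw [mem_centralizer_singleton_iff, ← hb]
        have := mem_centralizer_singleton_iff.1 y.2
        calc b * y * b⁻¹ * (b * (z0 * c) * b⁻¹) = b * (y * (z0 * c)) * b⁻¹ := by group
          _ = b * ((z0 * c) * y) * b⁻¹ := by rw [this]
          _ = _ := by group
      · rw [mem_centralizer_singleton_iff]
        have := mem_centralizer_singleton_iff.1 y.2
        calc b⁻¹ * y * b * (z0 * c) = b⁻¹ * (y * (b * (z0 * c) * b⁻¹)) * b := by group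
          _ = b⁻¹ * (y * D.rep j) * b := by rw [hb]
          _ = b⁻¹ * (D.rep j * y) * b := by rw [this]
          _ = b⁻¹ * ((b * (z0 * c) * b⁻¹) * y) * b := by rw [hb]
          _ = _ := by group
    rw [h2, E.card_cent j] at h1
    have h3 : orderOf ((z0 : G) * c) = (![11, 11, 22, 22, 33, 33, 44, 66, 66] : Fin 9 → ℕ) j := by
      rw [H34.TI.orderOf_conj hj, E.ord_rep j]
    have h4 : orderOf ((z0 : G) * c) = 11 := by
      rw [h3]
      clear h3 hj h2
      revert h1
      revert j
      decide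
    rw [ho] at h4
    obtain ⟨m, hm⟩ := hz11
    rw [hm, mul_assoc] at h4
    have h5 : m * orderOf c = 1 := by omega
    exact orderOf_eq_one_iff.1 (Nat.eq_one_of_mul_eq_one_left h5)
  rintro ⟨c, hc⟩
  rw [orderOf_mk]
  obtain ⟨a, n, hn, hcn⟩ := Nat.exists_eq_pow_mul_and_not_dvd (orderOf_pos c).ne' 11 (by norm_num)
  refine ⟨a, ?_⟩
  have h1 : orderOf (c ^ 11 ^ a) = n := by
    rw [orderOf_pow_of_dvd (by positivity) (by rw [hcn]; exact dvd_mul_right _ _), hcn]
    exact Nat.mul_div_cancel_left _ (by positivity)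
  have h2 := key (c ^ 11 ^ a) (pow_mem hc _) (by
    rw [h1]
    exact ((Nat.Prime.coprime_iff_not_dvd hp.out).2 hn).symm)
  rw [h2, orderOf_one] at h1
  rw [hcn, ← h1, mul_one]

end

attribute [local instance] H877.IMJ4.finJ4

/-- at least seven characters of degree prime to 11 -/
theorem seven_le : 7 ≤ Nat.card {χ : IrrCharacter Spor.J4 // ¬ 11 ∣ charDegree (χ : Spor.J4 → ℂ)} := by
  classical
  have hf : Finite (IrrCharacter Spor.J4) := Characters.Core.finite_irr
  let : Fintype (IrrCharacter Spor.J4) := Fintype.ofFinite _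
  have hsim : IsSimpleGroup Spor.J4 := H877.IMJ4.simple
  obtain ⟨a, b, h11⟩ := H34.TI.cols11 El.eleven H735.J4C.hN
  have h := seven_le_card H877.IMJ4.nonab H735.J4C.hN H877.IMJ4.card_classes H735.J4C.cents El.eleven.ord_z
    El.eleven.ord_x h11
  rw [Nat.card_eq_fintype_card, Fintype.card_subtype]
  exact h

/-- **The row `J₄` (`p = 11`) of S4927** -/
theorem lt_x0 {p : ℕ} [hp : Fact p.Prime] (h11 : p = 11) {M : Ideal AlgInt} (hM : IsPModular p M) {H : Type u} [Group H]
    (h : Nonempty (H ≃* Spor.J4)) : 4 * (p - 1) < x0 p M H ^ 2 := by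
  subst h11
  obtain ⟨e⟩ := h
  have h1 := XZ.x0_eq_card_of_equiv hM e (pgroup_cent El.eleven H735.J4C.hN) (no_sq El.eleven)
  have h2 := seven_le
  rw [← h1] at h2
  have h3 : 7 ^ 2 ≤ x0 11 M H ^ 2 := Nat.pow_le_pow_left h2 2
  omega

end Cfsg.Agent.H608.J4
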