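import Cfsg.Agent.H735.J4C.Chk

/-!
# `J₄`: at least seven irreducible characters of degree prime to 11, the certificate (helper608)

`Cf` : a linear certificate in the degree, the columns of the primes 43, 37, 31, 29, 23 and the columns of `11A`, `11B`.
`tot_le_of_chk` : if the check succeeds, the total is at most `c` times the number of the characters of degree prime to 11.
-/

set_option autoImplicit false
set_option maxRecDepth 100000
set_option Elab.async false

namespace Cfsg.Agent.H608.J4

open Cfsg.Agent.H735.Lin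
open Cfsg.Agent.H653.Sieve (allDiv allDiv_spec facProd)

/-- the coefficients of a certificate -/
structure Cf where
  M : List (List ℤ)
  E : List ℤ
  k : ℤ
  o : ℤ

/-- the value of a certificate -/
def Cf.ev (C : Cf) (d : ℕ) (X Y : List ℤ) : ℤ :=
  C.k + (bif Nat.beq d 1 then C.o else 0) + qt C.M X + ex C.E Y

/-- the total -/
def Cf.tot (C : Cf) (K one : ℤ) (cs es : List ℤ) : ℤ := C.k * K + C.o * one + trc C.M cs + dot C.E es

def chkD (PF : List (ℕ × List (ℕ × ℤ))) (C : Cf) (c : ℤ) (d : ℕ) : Bool :=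
  allH d PF fun ws => allAB d fun a b =>
    decide (C.ev d ((d : ℤ) :: (ws ++ [a, b])) ws ≤ (bif Nat.beq (d % 11) 0 then 0 else c))

/-- the check -/
def chk (N : ℕ) (PF : List (ℕ × List (ℕ × ℤ))) (C : Cf) (c : ℤ) (L : List (ℕ × ℕ)) : Bool :=
  allDiv N (fun d => bif Nat.ble N (d * d) then true else chkD PF C c d) L 1

section

variable {X : Type*} [Fintype X]

theorem sum_ev (C : Cf) {d : X → ℕ} {A B : List (X → ℤ)} {K one : ℤ} {cs es : List ℤ}
    (hK : (Fintype.card X : ℤ) = K) (h1 : ∑ x, (bif Nat.beq (d x) 1 then (1 : ℤ) else 0) = one) (hA : Orth A cs)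
    (hB : List.Forall₂ (fun (W : X → ℤ) (c : ℤ) => ∑ x, (bif Nat.beq (W x).natAbs 1 then (1 : ℤ) else 0) = c) B es) :
    ∑ x, C.ev (d x) (val A x) (val B x) = C.tot K one cs es := by
  unfold Cf.ev Cf.tot
  have e1 : ∑ x : X, (bif Nat.beq (d x) 1 then C.o else 0) = C.o * one := by
    rw [← h1, Finset.mul_sum]
    refine Finset.sum_congr rfl fun x _ => ?_
    cases Nat.beq (d x) 1 <;> simp
  have e2 : ∑ _x : X, C.k = C.k * K := by
    rw [Finset.sum_const, Finset.card_univ, nsmul_eq_mul, hK, mul_comm]
  rw [Finset.sum_add_distrib, Finset.sum_add_distrib, Finset.sum_add_distrib, e1, e2, sum_qt C.M hA, sum_ex C.E hB]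

/-- **The certificate.** -/
theorem tot_le_of_chk (C : Cf) (c : ℤ) {N : ℕ} {L : List (ℕ × ℕ)} (hL : (L.all fun pa => Nat.Prime pa.1) = true)
    (hLN : facProd L = N) {PF : List (ℕ × List (ℕ × ℤ))} {d : X → ℕ} {Ws : List (X → ℤ)} {a b : X → ℤ}
    (hd : ∀ x, d x ∣ N) (hd2 : ∀ x, d x * d x < N)
    (hW : ∀ x, List.Forall₂ (fun (p : ℕ × List (ℕ × ℤ)) (w : ℤ) => (d x % p.1, w) ∈ p.2) PF (val Ws x))
    (hn : ∀ x, 242 * a x ^ 2 + 31944 * b x ^ 2 ≤ 7730448) (hab : ∀ x, (11 : ℤ) ∣ b x - a x)
    (hdab : ∀ x, (1331 : ℤ) ∣ d x - (11 * b x - 10 * a x)) (hda : ∀ x, (d x : ℤ) ∣ 2716490453483520 * a x)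
    (hdb : ∀ x, (d x : ℤ) ∣ 358576739859824640 * b x)
    {T : ℤ} (hT : ∑ x, C.ev (d x) (val ((fun x => (d x : ℤ)) :: (Ws ++ [a, b])) x) (val Ws x) = T)
    (hc : chk N PF C c L = true) :
    T ≤ c * (Finset.univ.filter fun x => ¬ 11 ∣ d x).card := by
  refine tot_le hT fun x => ?_
  have hpr : ∀ pa ∈ L, pa.1.Prime := by
    intro pa hpa
    have := List.all_eq_true.1 hL pa hpa
    simpa using this
  have h1 := allDiv_spec hpr hc (d x) (by rw [hLN]; exact hd x) (by rw [one_mul]; exact hd2 x)
  have h2 : Nat.ble N (d x * d x) = false := by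
    rw [Bool.eq_false_iff]
    intro h5
    exact absurd (Nat.le_of_ble_eq_true h5) (by have := hd2 x; omega)
  rw [one_mul, h2, cond_false, chkD] at h1
  have h3 := allAB_spec (allH_spec h1 (hW x)) (hn x) (hab x) (hdab x) (hda x) (hdb x)
  rw [decide_eq_true_eq] at h3
  have e1 : val ((fun x => (d x : ℤ)) :: (Ws ++ [a, b])) x = (d x : ℤ) :: (val Ws x ++ [a x, b x]) := by
    simp [val]
  rw [e1]
  refine h3.trans (le_of_eq ?_)
  by_cases h6 : 11 ∣ d x
  · rw [if_neg (fun h => h h6)]
    have h7 : Nat.beq (d x % 11) 0 = true := by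
      rw [Nat.mod_eq_zero_of_dvd h6]
      rfl
    rw [h7, cond_true]
  · rw [if_pos h6]
    have h7 : Nat.beq (d x % 11) 0 = false := by
      rw [Bool.eq_false_iff]
      intro h8
      exact h6 (Nat.dvd_of_mod_eq_zero (Nat.eq_of_beq_eq_true h8))
    rw [h7, cond_false]

end

/-! ### The data -/

def N : ℕ := 86775571046077562880

def L : List (ℕ × ℕ) := [(43, 1), (37, 1), (31, 1), (29, 1), (23, 1), (11, 3), (7, 1), (5, 1), (3, 3), (2, 21)]

def PF : List (ℕ × List (ℕ × ℤ)) := [(43, [(0, .ofNat 0), (1, .ofNat 3), (14, .negSucc 0), (29, .ofNat 1), (42, .negSucc 2)]),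
  (37, [(0, .ofNat 0), (1, .ofNat 3), (12, .negSucc 0), (25, .ofNat 1), (36, .negSucc 2)]),
  (31, [(0, .ofNat 0), (1, .ofNat 3), (10, .negSucc 0), (21, .ofNat 1), (30, .negSucc 2)]),
  (29, [(0, .ofNat 0), (1, .ofNat 1), (28, .negSucc 0)]),
  (23, [(0, .ofNat 0), (1, .ofNat 1), (22, .negSucc 0)])]

/-- the scale -/
def S : ℤ := .ofNat 1208925819614629174706176

/-- the certificate, found by linear programming -/
def cf : Cf where
  M := [[.ofNat 0, .negSucc 1380009916867355, .ofNat 87092704566890, .negSucc 2375754109819341, .negSucc 8008302100777, .ofNat 1185193090172491, .negSucc 3037631831328, .negSucc 19587099375527],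
    [.negSucc 1406580294283774977376255, .negSucc 358611704666898743427071, .ofNat 659430952115173272322048, .ofNat 2418063232289252478812160, .negSucc 3101001379919608040914943, .ofNat 36809062023796109606912, .ofNat 627624996811931322941440],
    [.ofNat 33011870644881508532224, .negSucc 1085862677868846654685183, .negSucc 140413432690940670115839, .ofNat 0, .negSucc 3696941918613516320767, .negSucc 21606098435057913954303],
    [.ofNat 2156182706138774553755648, .ofNat 0, .negSucc 1684248930051475342622719, .ofNat 79494551393912345329664, .ofNat 482656727183859342376960],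
    [.ofNat 0, .ofNat 451575163201618651906048, .ofNat 2651415642533206687744, .negSucc 366053602830250141548543],
    [.ofNat 0, .negSucc 25277822735762812043263, .ofNat 388348943799829653356544],
    [.ofNat 0, .ofNat 371074187885334337945],
    [.negSucc 52048627062334195499007]]
  E := [.negSucc 341247454133577163210751, .ofNat 0, .negSucc 2398917610637972681523199]
  k := .ofNat 11486982315398186676519
  o := .ofNat 4738084811262405407408128

/-! The check is done in pieces (memory). -/

/-- the function checked -/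
def fC (d : ℕ) : Bool := bif Nat.ble N (d * d) then true else chkD PF cf S d

def LL : List (ℕ × ℕ) := [(23, 1), (11, 3), (7, 1), (5, 1), (3, 3), (2, 21)]

theorem cons_one {n : ℕ} {f : ℕ → Bool} {p : ℕ} {K : List (ℕ × ℕ)} {d : ℕ} (h1 : allDiv n f K d = true)
    (h2 : allDiv n f K (d * p) = true) : allDiv n f ((p, 1) :: K) d = true := by
  show H653.Sieve.allPow n (allDiv n f K) p 1 d = true
  unfold H653.Sieve.allPow H653.Sieve.allPow
  rw [h1, h2]
  cases Nat.ble n (d * d) <;> simp

theorem pc0 : allDiv N fC LL (1) = true := by decide +kernel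
theorem pc1 : allDiv N fC LL (1 * 29) = true := by decide +kernel
theorem pc2 : allDiv N fC LL (1 * 31) = true := by decide +kernel
theorem pc3 : allDiv N fC LL (1 * 31 * 29) = true := by decide +kernel
theorem pc4 : allDiv N fC LL (1 * 37) = true := by decide +kernel
theorem pc5 : allDiv N fC LL (1 * 37 * 29) = true := by decide +kernel
theorem pc6 : allDiv N fC LL (1 * 37 * 31) = true := by decide +kernel
theorem pc7 : allDiv N fC LL (1 * 37 * 31 * 29) = true := by decide +kernel
theorem pc8 : allDiv N fC LL (1 * 43) = true := by decide +kernel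
theorem pc9 : allDiv N fC LL (1 * 43 * 29) = true := by decide +kernel
theorem pc10 : allDiv N fC LL (1 * 43 * 31) = true := by decide +kernel
theorem pc11 : allDiv N fC LL (1 * 43 * 31 * 29) = true := by decide +kernel
theorem pc12 : allDiv N fC LL (1 * 43 * 37) = true := by decide +kernel
theorem pc13 : allDiv N fC LL (1 * 43 * 37 * 29) = true := by decide +kernel
theorem pc14 : allDiv N fC LL (1 * 43 * 37 * 31) = true := by decide +kernel
theorem pc15 : allDiv N fC LL (1 * 43 * 37 * 31 * 29) = true := by decide +kernel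

theorem chk_cf : chk N PF cf S L = true :=
  cons_one (cons_one (cons_one (cons_one pc0 pc1) (cons_one pc2 pc3)) (cons_one (cons_one pc4 pc5) (cons_one pc6 pc7))) (cons_one (cons_one (cons_one pc8 pc9) (cons_one pc10 pc11)) (cons_one (cons_one pc12 pc13) (cons_one pc14 pc15)))

theorem tot_cf : 6 * S < cf.tot 62 1 [86775571046077562880, 129, 111, 93, 29, 23, 31944, 242] [3, 3, 3] := by
  decide +kernel

end Cfsg.Agent.H608.J4
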