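import Cfsg.Agent.H608.J4.Cert
import Cfsg.Agent.H735.J4C.Main

/-!
# `J₄`: at least seven irreducible characters of degree prime to 11 (helper608)
-/

set_option autoImplicit false
set_option linter.unusedSectionVars false

open Cfsg Subgroup
open scoped ComplexConjugate

namespace Cfsg.Agent.H608.J4

open Cfsg.Agent.Characters.Core Cfsg.Agent.H653.Sieve Cfsg.Agent.H735.Lin
open Cfsg.Agent.H735.J4C (Sp prime_col sumsq orth_eq mem_Sp deg_mem_Sp)

universe u

variable {G : Type u} [Group G] [Finite G] [Fintype (IrrCharacter G)]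

/-- **At least seven irreducible characters of degree prime to 11.** -/
theorem seven_le_card [IsSimpleGroup G] (hG : ¬ IsMulCommutative G) (hN : Nat.card G = H735.J4C.N)
    (hk : Nat.card (ConjClasses G) = 62)
    (hc : ∀ p ∈ [43, 37, 31, 29, 23], ∃ x : G, orderOf x = p ∧ Nat.card (centralizer ({x} : Set G)) = p)
    {z x : G} (hz : orderOf z = 11) (hx : orderOf x = 11) {a b : IrrCharacter G → ℤ} (h11 : H34.TI.Cols11 z x a b) :
    7 ≤ (Finset.univ.filter fun χ : IrrCharacter G => ¬ 11 ∣ charDegree (χ : G → ℂ)).card := by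
  classical
  have := Fintype.ofFinite G
  obtain ⟨W0, m0, q0, c0, r0⟩ := prime_col hG (by norm_num) hN (hc 43 (by simp)) 14 3
    [(0, .ofNat 0), (1, .ofNat 3), (14, .negSucc 0), (29, .ofNat 1), (42, .negSucc 2)] 3 true (by decide +kernel)
  obtain ⟨W1, m1, q1, c1, r1⟩ := prime_col hG (by norm_num) hN (hc 37 (by simp)) 12 3
    [(0, .ofNat 0), (1, .ofNat 3), (12, .negSucc 0), (25, .ofNat 1), (36, .negSucc 2)] 3 true (by decide +kernel)
  obtain ⟨W2, m2, q2, c2, r2⟩ := prime_col hG (by norm_num) hN (hc 31 (by simp)) 10 3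
    [(0, .ofNat 0), (1, .ofNat 3), (10, .negSucc 0), (21, .ofNat 1), (30, .negSucc 2)] 3 true (by decide +kernel)
  obtain ⟨W3, m3, q3, -, r3⟩ := prime_col hG (by norm_num) hN (hc 29 (by simp)) 28 1
    [(0, .ofNat 0), (1, .ofNat 1), (28, .negSucc 0)] 0 false (by decide +kernel)
  obtain ⟨W4, m4, q4, -, r4⟩ := prime_col hG (by norm_num) hN (hc 23 (by simp)) 22 1
    [(0, .ofNat 0), (1, .ofNat 1), (22, .negSucc 0)] 0 false (by decide +kernel)
  have md := deg_mem_Sp (G := G)
  have ma : (fun χ => (a χ : ℂ)) ∈ Sp G (fun n => n = 11) := by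
    rw [funext h11.a_eq]
    exact mem_Sp z hz
  have mb : (fun χ => (b χ : ℂ)) ∈ Sp G (fun n => n = 11) := by
    rw [funext h11.b_eq]
    exact mem_Sp x hx
  have hA0 : Orth [(fun χ => (deg χ : ℤ)), W0, W1, W2, W3, W4, a, b]
      [86775571046077562880, 129, 111, 93, 29, 23, 31944, 242] := by
    refine .cons (by rw [sumsq, hN]; rfl) ?_ (.cons q0 ?_ (.cons q1 ?_ (.cons q2 ?_ (.cons q3 ?_ (.cons q4 ?_
      (.cons h11.aa ?_ (.cons h11.bb ?_ .nil)))))))
    · intro W hW
      simp only [List.mem_cons, List.not_mem_nil, or_false] at hW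
      rcases hW with rfl | rfl | rfl | rfl | rfl | rfl | rfl
      · exact orth_eq (by norm_num) md m0
      · exact orth_eq (by norm_num) md m1
      · exact orth_eq (by norm_num) md m2
      · exact orth_eq (by norm_num) md m3
      · exact orth_eq (by norm_num) md m4
      · exact orth_eq (by norm_num) md ma
      · exact orth_eq (by norm_num) md mb
    · intro W hW
      simp only [List.mem_cons, List.not_mem_nil, or_false] at hW
      rcases hW with rfl | rfl | rfl | rfl | rfl | rfl
      · exact orth_eq (by norm_num) m0 m1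
      · exact orth_eq (by norm_num) m0 m2
      · exact orth_eq (by norm_num) m0 m3
      · exact orth_eq (by norm_num) m0 m4
      · exact orth_eq (by norm_num) m0 ma
      · exact orth_eq (by norm_num) m0 mb
    · intro W hW
      simp only [List.mem_cons, List.not_mem_nil, or_false] at hW
      rcases hW with rfl | rfl | rfl | rfl | rfl
      · exact orth_eq (by norm_num) m1 m2
      · exact orth_eq (by norm_num) m1 m3
      · exact orth_eq (by norm_num) m1 m4
      · exact orth_eq (by norm_num) m1 ma
      · exact orth_eq (by norm_num) m1 mb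
    · intro W hW
      simp only [List.mem_cons, List.not_mem_nil, or_false] at hW
      rcases hW with rfl | rfl | rfl | rfl
      · exact orth_eq (by norm_num) m2 m3
      · exact orth_eq (by norm_num) m2 m4
      · exact orth_eq (by norm_num) m2 ma
      · exact orth_eq (by norm_num) m2 mb
    · intro W hW
      simp only [List.mem_cons, List.not_mem_nil, or_false] at hW
      rcases hW with rfl | rfl | rfl
      · exact orth_eq (by norm_num) m3 m4
      · exact orth_eq (by norm_num) m3 ma
      · exact orth_eq (by norm_num) m3 mb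
    · intro W hW
      simp only [List.mem_cons, List.not_mem_nil, or_false] at hW
      rcases hW with rfl | rfl
      · exact orth_eq (by norm_num) m4 ma
      · exact orth_eq (by norm_num) m4 mb
    · intro W hW
      simp only [List.mem_cons, List.not_mem_nil, or_false] at hW
      rw [hW]
      exact h11.ab
    · intro W hW
      simp at hW
  have hA : Orth ((fun χ => (deg χ : ℤ)) :: ([W0, W1, W2, W3, W4] ++ [a, b]))
      [86775571046077562880, 129, 111, 93, 29, 23, 31944, 242] := hA0
  have hnp : ¬ (Nat.card G).Prime := by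
    rw [hN, H735.J4C.N]
    norm_num
  obtain ⟨χ₁, hχ₁⟩ : ∃ χ : IrrCharacter G, (χ : G → ℂ) = 1 := ⟨⟨1, isIrr_one⟩, rfl⟩
  have hd1 : deg χ₁ = 1 := by
    unfold deg charDegree
    rw [hχ₁]
    simp
  have hone : ∑ χ : IrrCharacter G, (bif Nat.beq (deg χ) 1 then (1 : ℤ) else 0) = 1 := by
    rw [Finset.sum_eq_single χ₁]
    · rw [hd1]
      rfl
    · intro χ _ hχ
      have h1 : Nat.beq (deg χ) 1 = false := by
        rw [Bool.eq_false_iff]
        intro h2
        exact hχ (Subtype.ext ((one_of_deg hnp χ (Nat.eq_of_beq_eq_true h2)).trans hχ₁.symm))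
      rw [h1]
      rfl
    · intro h
      exact absurd (Finset.mem_univ _) h
  have hcard : (Fintype.card (IrrCharacter G) : ℤ) = 62 := by
    rw [← Nat.card_eq_fintype_card, card_irr, hk]
    rfl
  have hd : ∀ χ : IrrCharacter G, deg χ ∣ N := by
    intro χ
    have h1 : N = Nat.card G := hN.symm
    rw [h1]
    exact Blocks.Knorr.charDegree_dvd χ.2
  have hd2 : ∀ χ : IrrCharacter G, deg χ * deg χ < N := by
    intro χ
    by_cases hne : χ = χ₁
    · rw [hne, hd1, N]
      norm_num
    · have hsq := SmallSimple.DegreeData.sum_sq (G := G)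
      have h4 : ∑ χ' ∈ ({χ, χ₁} : Finset (IrrCharacter G)), charDegree (χ' : G → ℂ) ^ 2 ≤
          ∑ χ' : IrrCharacter G, charDegree (χ' : G → ℂ) ^ 2 := Finset.sum_le_sum_of_subset (Finset.subset_univ _)
      rw [Finset.sum_pair hne, hsq, hN] at h4
      have e1 : charDegree (χ : G → ℂ) = deg χ := rfl
      have e2 : charDegree (χ₁ : G → ℂ) = deg χ₁ := rfl
      have e3 : H735.J4C.N = N := rfl
      rw [e1, e2, hd1, pow_two, e3] at h4
      omega
  have hT := sum_ev cf hcard hone hA
    (.cons (c0 rfl) (.cons (c1 rfl) (.cons (c2 rfl) (.cons (R := fun (W : IrrCharacter G → ℤ) (c : ℤ) =>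
      ∑ x, (bif Nat.beq (W x).natAbs 1 then (1 : ℤ) else 0) = c) (a := W3) rfl (.cons (a := W4) rfl .nil)))))
  have h := tot_le_of_chk cf S (L := L) (by decide +kernel) (by decide +kernel) hd hd2 (fun χ => ?_) h11.norm h11.cong
      (fun χ => h11.cong' χ) (fun χ => h11.dvd_a χ) (fun χ => h11.dvd_b χ) hT chk_cf
  · have h1 := tot_cf
    have hS : (0 : ℤ) < S := by decide +kernel
    have h2 : cf.tot 62 1 [86775571046077562880, 129, 111, 93, 29, 23, 31944, 242] [3, 3, 3] ≤
        S * (Finset.univ.filter fun χ : IrrCharacter G => ¬ 11 ∣ charDegree (χ : G → ℂ)).card := h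
    have h3 : (6 : ℤ) < (Finset.univ.filter fun χ : IrrCharacter G => ¬ 11 ∣ charDegree (χ : G → ℂ)).card := by
      by_contra hcon
      push Not at hcon
      have := mul_le_mul_of_nonneg_left hcon hS.le
      linarith
    exact_mod_cast h3
  · exact .cons (r0 χ) (.cons (r1 χ) (.cons (r2 χ) (.cons (r3 χ) (.cons (r4 χ) .nil))))

end Cfsg.Agent.H608.J4
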